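import Cfsg.Agent.Lib.H17.Fi23Syl.Small

set_option autoImplicit false
set_option maxRecDepth 100000

/-! # A Sylow 2-subgroup of Fi23: the normal forms are different, and a centraliser (generated) -/

namespace Cfsg.Agent.Lib.H17.Fi23Syl

open Cfsg.Spor Cfsg.Agent.Lib.H17.CosetCert Cfsg.Agent.Lib.H17.CoxGlue Cfsg.Agent.Lib.H17.Fi23Glue
  Cfsg.Agent.Lib.H17.Fi23Fi22 Cfsg.Agent.Lib.H17.Sgs Cfsg.Agent.Lib.H17.Sift
  Cfsg.Agent.Lib.H17.PermActs Cfsg.Agent.Lib.H17.Pc2 Cfsg.Agent.Lib.H17.LocalActs
  Cfsg.Agent.Lib.H17.Fi23Out

attribute [local instance] finite_G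

/-- the elements of the subgroup commuting with the central involution above it -/
def FIXMASK : ℕ := 0xa5000000a500000a0050000a005000a0000500a000050a0000005a00000050000000000000000000000000000000000000000000000000000000000000000000a5000000a500000a0050000a005000a0000500a000050a0000005a00000050000000000000000000000000000000000000000000000000000000000000000000a5000000a500000a0050000a005000a0000500a000050a0000005a00000050000000000000000000000000000000000000000000000000000000000000000000a5000000a500000a0050000a005000a0000500a000050a0000005a0000005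

/-- the normal form of `u` commutes with the central involution above the subgroup -/
def fixB (u : ℕ) : Bool := tb FIXMASK u

theorem fix_count : ((Finset.range (2 ^ gl2.length)).filter (fun u => fixB u = true)).card ≤ 128 := by
  have h1 := countBits_eq FIXMASK 2048 0
  have h2 : countBits FIXMASK 2048 0 = 128 := by decide +kernel
  rw [gl2_length]
  unfold fixB
  norm_num at h1 ⊢
  omega

theorem cent_chk : allLt (fun u => cond (fixB u) true
    (cond (Nat.beq (applyBits As 64 (applyBits As (128 * u) 1))
      (applyBits As (128 * u) (applyBits As 64 1))) false true)) 2048 = true := by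
  decide +kernel

theorem nf2_upper (e1 : ℕ) (h : e1 < 128) : nf2 gl1 e1 = nf2 (gl1 ++ gl2) e1 := by
  have := nf2_append gl1 gl2 e1 0 (by rw [gl1_length]; exact h)
  rw [nf2_zero, mul_one, mul_zero, add_zero] at this
  exact this.symm

theorem nf2_lower (u : ℕ) : nf2 gl2 u = nf2 (gl1 ++ gl2) (128 * u) := by
  have := Cfsg.Agent.Lib.H17.SylEA.nf2_append_zero gl1 gl2 u
  rw [gl1_length] at this
  exact this.symm

theorem cent (u : ℕ) (hu : u < 2 ^ gl2.length) (hf : fixB u = false) :
    nf2 gl1 64 * nf2 gl2 u ≠ nf2 gl2 u * nf2 gl1 64 := by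
  rw [gl2_length] at hu
  rw [nf2_upper 64 (by norm_num), nf2_lower u]
  have ha := lacts_nf2 hP _ As hL 64
  have hu' := lacts_nf2 hP _ As hL (128 * u)
  refine LActs.ne hPinj (ha.mul hP hu') (hu'.mul hP ha) 1 (by norm_num) ?_
  have h := allLt_sound _ _ cent_chk u (by simpa using hu)
  rw [hf, cond_false] at h
  intro heq
  rw [heq] at h
  have hb : ∀ x : ℕ, Nat.beq x x = true := fun x => by simp
  rw [hb] at h
  exact absurd h (by simp)

theorem sig_chk : allLt (fun e => allLt (fun e' => cond (Nat.beq e e') true
    (cond (Nat.beq (applyBits As1 e 0) (applyBits As1 e' 0) && Nat.beq (applyBits As1 e 5) (applyBits As1 e' 5) && Nat.beq (applyBits As1 e 6) (applyBits As1 e' 6)) false true)) 128) 128 = true := by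
  decide +kernel

theorem fixE_chk : As2.all (fun a => Nat.beq (a 0) 0 && Nat.beq (a 5) 5 && Nat.beq (a 6) 6) = true := by
  decide +kernel

theorem mv_chk : allLt (fun w => cond (Nat.beq w 0) true
    (cond (Nat.beq (applyBits As2 w 1) 1 && Nat.beq (applyBits As2 w 16) 16 && Nat.beq (applyBits As2 w 2) 2) false true)) 2048 = true := by
  decide +kernel

end Cfsg.Agent.Lib.H17.Fi23Syl
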