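import Cfsg.Agent.Lib.H17.Fi23Syl.Gens

set_option autoImplicit false
set_option maxRecDepth 100000

/-! # A Sylow 2-subgroup of Fi23: the elementary abelian subgroup (generated) -/

namespace Cfsg.Agent.Lib.H17.Fi23Syl

open Cfsg.Spor Cfsg.Agent.Lib.H17.CosetCert Cfsg.Agent.Lib.H17.CoxGlue Cfsg.Agent.Lib.H17.Fi23Glue
  Cfsg.Agent.Lib.H17.Fi23Fi22 Cfsg.Agent.Lib.H17.Sgs Cfsg.Agent.Lib.H17.Sift
  Cfsg.Agent.Lib.H17.PermActs Cfsg.Agent.Lib.H17.Pc2 Cfsg.Agent.Lib.H17.LocalActs
  Cfsg.Agent.Lib.H17.Fi23Out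

attribute [local instance] finite_G

theorem relC_chk : allLt (fun i => allLt (fun j => cond (Nat.blt i j)
    (chkRel (wl2.getD i [] ++ wl2.getD j []) (wl2.getD j [] ++ wl2.getD i [])) true) 11) 11 = true := by
  decide +kernel

theorem sqC_chk : allLt (fun i => chkRel (wl2.getD i [] ++ wl2.getD i []) []) 11 = true := by
  decide +kernel

theorem sqC : ∀ x ∈ gl2, x ^ 2 = 1 := by
  intro x hx
  obtain ⟨i, hi, rfl⟩ := mem_map_eW hx
  have := eW_eq_of_chk _ _ (allLt_sound _ _ sqC_chk i hi)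
  rw [eW_append] at this
  rw [pow_two, this]
  rfl

theorem commC : ∀ x ∈ gl2, ∀ y ∈ gl2, x * y = y * x := by
  have key : ∀ i j, i < j → j < 11 →
      eW gens (wl2.getD i []) * eW gens (wl2.getD j []) =
        eW gens (wl2.getD j []) * eW gens (wl2.getD i []) := by
    intro i j hij hj
    have h := allLt_sound _ _ (allLt_sound _ _ relC_chk i (by omega)) j hj
    have hb : Nat.blt i j = true := by simpa [Nat.blt_eq] using hij
    rw [hb, cond_true] at h
    have := eW_eq_of_chk _ _ h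
    rwa [eW_append, eW_append] at this
  intro x hx y hy
  obtain ⟨i, hi, rfl⟩ := mem_map_eW hx
  obtain ⟨j, hj, rfl⟩ := mem_map_eW hy
  rcases lt_trichotomy i j with h | h | h
  · exact key i j h hj
  · rw [h]
  · exact (key j i h hi).symm

end Cfsg.Agent.Lib.H17.Fi23Syl
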