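import Cfsg.Agent.Lib.H17.Fi23Out.ChainS
import Cfsg.Agent.Lib.H17.LocalActs
import Cfsg.Agent.Lib.H17.SylEA

set_option autoImplicit false
set_option maxRecDepth 100000

/-! # A Sylow 2-subgroup of Fi23: words of a polycyclic sequence (generated) -/

namespace Cfsg.Agent.Lib.H17.Fi23Syl

open Cfsg.Spor Cfsg.Agent.Lib.H17.CosetCert Cfsg.Agent.Lib.H17.CoxGlue Cfsg.Agent.Lib.H17.Fi23Glue
  Cfsg.Agent.Lib.H17.Fi23Fi22 Cfsg.Agent.Lib.H17.Sgs Cfsg.Agent.Lib.H17.Sift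
  Cfsg.Agent.Lib.H17.PermActs Cfsg.Agent.Lib.H17.Pc2 Cfsg.Agent.Lib.H17.LocalActs
  Cfsg.Agent.Lib.H17.Fi23Out

attribute [local instance] finite_G

/-- the base of the action on 31671 points -/
def bs : List ℕ := [3860, 5774, 3486, 326, 73, 3, 2, 0]

/-- the word of the generator 0 of the polycyclic sequence -/
def w0 : List ℕ := [2, 3, 4, 0, 1, 2, 3, 8, 9, 8, 7, 6, 5, 3, 4, 2, 3, 8, 0, 1, 2, 3, 4, 5, 6, 7, 9, 0, 1, 2, 3, 8, 4, 5, 3, 4, 2, 3, 8, 9, 8, 5, 3, 4, 1, 2, 3, 8, 0, 1, 2, 3, 4, 6, 5, 4, 3, 8, 9, 8, 2, 3, 4, 1, 2, 3, 8, 0, 1, 2, 3, 5, 6, 5, 4, 8, 1, 2, 0, 2, 3, 4, 5, 6, 5, 4, 3, 2, 1, 2, 1, 8, 3, 4, 5, 6, 5, 4, 3, 8, 3, 1, 2, 1, 8, 3, 4, 5, 6, 5, 4, 3, 8, 1, 2, 1]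

/-- the word of the generator 1 of the polycyclic sequence -/
def w1 : List ℕ := [7, 6, 5, 4, 1, 2, 3, 8, 0, 1, 2, 3, 4, 5, 6, 7, 8, 9, 4, 1, 2, 3, 8, 5, 6, 4, 5, 3, 4, 1, 2, 3, 8, 9, 4, 5, 2, 3, 4, 1, 2, 3, 8, 0, 1, 2, 3, 4, 5, 8, 9, 4, 3, 8, 2, 3, 1, 2, 9, 3, 4, 5, 6, 5, 4, 3, 8, 9, 2, 3, 4, 1, 2, 3, 8, 0, 1, 2, 3, 4, 1, 2, 3, 9, 8, 3, 2, 1, 2, 1, 8, 3, 4, 5, 6, 5, 4, 3, 9, 8, 2, 3, 4, 5, 6, 5, 4, 3, 2, 3, 8, 9, 8, 2, 3, 4, 5, 6, 5, 4, 3, 2, 8, 9, 8, 3, 8, 9, 8, 3]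

/-- the word of the generator 2 of the polycyclic sequence -/
def w2 : List ℕ := [7, 6, 5, 4, 1, 2, 3, 8, 0, 1, 2, 3, 4, 5, 6, 7, 3, 8, 9, 6, 5, 4, 3, 8, 2, 3, 4, 1, 2, 3, 8, 9, 3, 4, 5, 2, 3, 4, 1, 2, 3, 8, 0, 1, 2, 3, 4, 5, 9, 8, 1, 2, 3, 0, 1, 2, 9, 4, 5, 6, 5, 4, 3, 8, 9, 2, 3, 4, 1, 2, 3, 8, 0, 1, 2, 3, 5, 6, 5, 4, 1, 2, 3, 8, 3, 1, 2, 0, 1, 2, 1, 8, 3, 4, 5, 6, 5, 4, 3, 9, 8, 3]

/-- the word of the generator 3 of the polycyclic sequence -/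
def w3 : List ℕ := [3, 8, 5, 2, 3, 4, 1, 2, 3, 8, 6, 7, 5, 6, 4, 5, 3, 4, 2, 3, 8, 1, 2, 3, 4, 5, 6, 7, 2, 1, 8, 3, 2, 4, 3, 8, 5, 6, 4, 5, 3, 4, 2, 3, 8, 9, 1, 2, 3, 8, 0, 1, 2, 3, 4, 5, 9, 1, 2, 3, 8, 0, 1, 2, 3, 5, 6, 5, 4, 3, 8, 1, 2, 0, 2, 3, 4, 5, 6, 5, 4, 3, 2, 8, 9, 8, 0, 1, 0, 3, 8, 9, 8, 3, 0, 1, 0, 2, 3, 4, 5, 6, 5, 4, 3, 2, 0, 1, 0, 8, 9, 8, 2, 3, 4, 5, 6, 5, 4, 3, 2, 8, 9, 8]

/-- the word of the generator 4 of the polycyclic sequence -/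
def w4 : List ℕ := [8, 3, 4, 2, 3, 8, 9, 7, 6, 4, 5, 3, 4, 2, 3, 8, 0, 1, 2, 3, 4, 5, 6, 7, 6, 5, 4, 2, 3, 8, 5, 6, 4, 5, 2, 3, 4, 1, 2, 3, 8, 9, 5, 2, 3, 4, 1, 2, 3, 8, 0, 1, 2, 3, 4, 5, 8, 9, 4, 3, 8, 3, 4, 2, 3, 0, 1, 2, 3, 4, 5, 6, 5, 4, 3, 8, 9, 2, 3, 4, 1, 2, 3, 8, 0, 1, 2, 3, 5, 6, 5, 4, 0, 9, 2, 3, 4, 5, 6, 5, 4, 3, 2, 1, 2, 1, 8, 9, 8, 2, 3, 4, 5, 6, 5, 4, 3, 2, 8, 9, 8, 3, 8, 9, 8, 3, 0, 1, 0, 2, 3, 4, 5, 6, 5, 4, 3, 2, 0, 1, 0, 3, 1, 2, 1, 3, 8, 9, 8, 2, 3, 4, 5, 6, 5, 4, 3, 2, 8, 9, 8, 1, 2, 1, 8, 3, 4, 5, 6, 5, 4, 3, 8, 1, 2, 1, 3, 8, 9, 8, 3]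

/-- the word of the generator 5 of the polycyclic sequence -/
def w5 : List ℕ := [8, 2, 3, 4, 0, 1, 2, 3, 8, 9, 3, 8, 7, 6, 5, 2, 3, 4, 1, 2, 3, 8, 0, 1, 2, 3, 4, 5, 6, 7, 9, 4, 3, 8, 5, 6, 3, 4, 5, 2, 3, 4, 0, 1, 2, 3, 8, 9, 4, 5, 3, 4, 1, 2, 3, 8, 0, 1, 2, 3, 4, 5, 9, 8, 4, 2, 3, 0, 1, 2, 9, 4, 5, 6, 5, 4, 3, 8, 9, 3, 4, 1, 2, 3, 8, 0, 1, 2, 3, 5, 6, 5, 4, 3, 8, 2, 8, 9, 8, 3, 0, 1, 0, 2, 3, 4, 5, 6, 5, 4, 3, 2, 0, 1, 0]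

/-- the word of the generator 6 of the polycyclic sequence -/
def w6 : List ℕ := [3, 8, 5, 2, 3, 4, 1, 2, 3, 8, 6, 7, 5, 6, 4, 5, 3, 4, 2, 3, 8, 1, 2, 3, 4, 5, 6, 7, 5, 9, 8, 3, 4, 2, 8, 9, 3, 8, 5, 6, 4, 5, 2, 3, 4, 1, 2, 3, 8, 9, 6, 5, 4, 1, 2, 3, 8, 0, 1, 2, 3, 4, 6, 5, 1, 2, 3, 8, 9, 4, 3, 8, 2, 3, 5, 6, 5, 4, 1, 2, 3, 8, 4, 5, 6, 5, 4, 3, 2, 0, 1, 0, 2, 3, 4, 5, 6, 5, 4, 3, 2, 0, 1, 0, 1, 2, 1, 8, 3, 4, 5, 6, 5, 4, 3, 8, 1, 2, 1]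

/-- the word of the generator 7 of the polycyclic sequence -/
def w7 : List ℕ := [5, 4, 3, 8, 2, 3, 4, 1, 2, 3, 8, 5, 6, 4, 5, 3, 4, 2, 3, 8, 1, 2, 3, 4, 5, 2, 3, 8, 4, 5, 6, 5, 3, 4, 2, 3, 8, 1, 2, 3, 5, 6, 5, 4, 2, 3, 8, 3, 4, 5, 6, 5, 4, 3, 2, 8, 3, 4, 5, 6, 5, 4, 3, 8, 1, 2, 1, 3, 1, 2, 1, 8, 3, 4, 5, 6, 5, 4, 3, 8, 1, 2, 1]

/-- the word of the generator 8 of the polycyclic sequence -/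
def w8 : List ℕ := [1, 2, 3, 8, 6, 4, 5, 3, 4, 2, 3, 8, 1, 2, 3, 4, 6, 5, 4, 3, 8, 1, 2, 3, 5, 6, 5, 4, 8, 3, 1, 2, 1, 3, 1, 2, 1, 8, 3, 4, 5, 6, 5, 4, 3, 8, 1, 2, 1]

/-- the word of the generator 9 of the polycyclic sequence -/
def w9 : List ℕ := [9, 2, 3, 8, 6, 4, 5, 3, 4, 2, 3, 8, 1, 2, 3, 4, 6, 5, 4, 3, 8, 1, 2, 3, 4, 8, 3, 2, 9, 2, 3, 4, 5, 6, 5, 4, 3, 2, 1, 2, 1, 3, 8, 9, 8, 2, 3, 4, 5, 6, 5, 4, 3, 2, 8, 9, 8]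

/-- the word of the generator 10 of the polycyclic sequence -/
def w10 : List ℕ := [3, 8, 6, 4, 5, 3, 4, 1, 2, 3, 8, 0, 1, 2, 3, 4, 6, 5, 4, 3, 8, 1, 2, 3, 5, 6, 5, 4, 8, 0, 1, 0, 1, 2, 1, 8, 3, 4, 5, 6, 5, 4, 3, 8, 3]

/-- the word of the generator 11 of the polycyclic sequence -/
def w11 : List ℕ := [9, 3, 8, 6, 4, 5, 3, 4, 2, 3, 8, 0, 1, 2, 3, 4, 6, 5, 4, 3, 8, 1, 2, 3, 4, 0, 3, 4, 5, 6, 5, 4, 9, 2, 3, 4, 5, 6, 5, 4, 3, 2, 3, 0, 1, 0, 2, 3, 4, 5, 6, 5, 4, 3, 2, 0, 1, 0, 3, 8, 9, 8, 3]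

/-- the word of the generator 12 of the polycyclic sequence -/
def w12 : List ℕ := [3, 4, 0, 1, 2, 3, 8, 9, 6, 5, 4, 3, 8, 2, 3, 4, 6, 5, 9, 4, 3, 8, 2, 3, 5, 6, 5, 4, 8, 2, 1, 0, 8, 9, 8, 3, 0, 1, 0, 2, 3, 4, 5, 6, 5, 4, 3, 2, 0, 1, 0]

/-- the word of the generator 13 of the polycyclic sequence -/
def w13 : List ℕ := [3, 4, 2, 3, 8, 9, 8, 6, 4, 5, 3, 4, 2, 3, 8, 0, 1, 2, 3, 4, 6, 5, 4, 3, 8, 9, 2, 3, 8, 1, 2, 3, 4, 8, 3, 2, 0, 9, 8, 9, 8, 2, 3, 4, 5, 6, 5, 4, 3, 2, 3]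

/-- the word of the generator 14 of the polycyclic sequence -/
def w14 : List ℕ := [3, 4, 2, 3, 8, 9, 8, 6, 5, 3, 4, 2, 3, 8, 1, 2, 3, 4, 6, 5, 4, 3, 8, 9, 2, 3, 8, 1, 2, 3, 5, 6, 5, 4, 2, 9, 2, 3, 4, 5, 6, 5, 4, 3, 2, 8, 9, 8, 3]

/-- the word of the generator 15 of the polycyclic sequence -/
def w15 : List ℕ := [3, 4, 1, 2, 3, 8, 9, 6, 5, 3, 4, 2, 3, 8, 1, 2, 3, 4, 6, 5, 4, 3, 8, 9, 2, 3, 8, 1, 2, 3, 5, 6, 5, 4, 8, 1, 8, 3, 4, 5, 6, 5, 4, 3, 8, 1, 2, 1, 3]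

/-- the word of the generator 16 of the polycyclic sequence -/
def w16 : List ℕ := [3, 4, 1, 2, 3, 8, 9, 6, 4, 5, 3, 4, 2, 3, 8, 0, 1, 2, 3, 4, 6, 5, 4, 3, 8, 9, 2, 3, 8, 1, 2, 3, 5, 6, 5, 4, 8, 1, 8, 3, 4, 5, 6, 5, 4, 3, 8, 0, 1, 0, 3, 1, 2, 1, 3]

/-- the word of the generator 17 of the polycyclic sequence -/
def w17 : List ℕ := [3, 4, 0, 1, 2, 3, 8, 9, 6, 3, 4, 5, 2, 3, 4, 1, 2, 3, 8, 0, 1, 2, 3, 4, 6, 5, 4, 3, 8, 9, 2, 3, 4, 1, 2, 3, 8, 0, 1, 2, 3, 5, 6, 5, 4, 3, 8, 2, 1, 0, 3]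

/-- the words of the generators above the elementary abelian normal subgroup -/
def wl1 : List (List ℕ) := [w0, w1, w2, w3, w4, w5, w6]

/-- the words of the generators of the elementary abelian normal subgroup -/
def wl2 : List (List ℕ) := [w7, w8, w9, w10, w11, w12, w13, w14, w15, w16, w17]

/-- the generators above the elementary abelian normal subgroup -/
noncomputable def gl1 : List G := wl1.map (eW gens)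

/-- the generators of the elementary abelian normal subgroup -/
noncomputable def gl2 : List G := wl2.map (eW gens)

theorem gl1_length : gl1.length = 7 := rfl

theorem gl2_length : gl2.length = 11 := rfl

/-- the words chosen by the binary digits, joined -/
def catBits : List (List ℕ) → ℕ → List ℕ
  | [], _ => []
  | w :: ws, e => cond (Nat.beq (e % 2) 1) w [] ++ catBits ws (e / 2)

theorem eW_append (X Y : List ℕ) : eW gens (X ++ Y) = eW gens X * eW gens Y := by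
  unfold eW
  rw [List.map_append, List.prod_append]

theorem nf2_map_eW (ws : List (List ℕ)) (e : ℕ) :
    nf2 (ws.map (eW gens)) e = eW gens (catBits ws e) := by
  induction ws generalizing e with
  | nil => rfl
  | cons w ws ih =>
    rw [List.map_cons, nf2_cons, catBits, eW_append, ih]
    congr 1
    have h2 : e % 2 < 2 := Nat.mod_lt _ (by norm_num)
    generalize e % 2 = b at h2
    interval_cases b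
    · have h0 : Nat.beq 0 1 = false := rfl
      rw [h0, cond_false, pow_zero, eW_nil]
    · have h1 : Nat.beq 1 1 = true := rfl
      rw [h1, cond_true, pow_one]

theorem getD_map_eW (ws : List (List ℕ)) (i : ℕ) :
    (ws.map (eW gens)).getD i 1 = eW gens (ws.getD i []) := by
  rw [List.getD_eq_getElem?_getD, List.getD_eq_getElem?_getD, List.getElem?_map]
  cases ws[i]? with
  | none => rfl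
  | some v => rfl

theorem mem_map_eW {ws : List (List ℕ)} {s : G} (h : s ∈ ws.map (eW gens)) :
    ∃ i < ws.length, s = eW gens (ws.getD i []) := by
  obtain ⟨w, hw, rfl⟩ := List.mem_map.mp h
  obtain ⟨i, hi, rfl⟩ := List.getElem_of_mem hw
  exact ⟨i, hi, by rw [List.getD_eq_getElem _ _ hi]⟩

/-- two words agree on the base -/
noncomputable def chkRel (X Y : List ℕ) : Bool :=
  bs.all fun b => Nat.beq (applyT 15 32768 (X.reverse.map tabf) b)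
    (applyT 15 32768 (Y.reverse.map tabf) b)

theorem eW_eq_of_chk (X Y : List ℕ) (h : chkRel X Y = true) : eW gens X = eW gens Y := by
  apply eq_of_acts kisBase (by decide) (acts_eW 15 32768 gens tabf acts_gens X)
    (acts_eW 15 32768 gens tabf acts_gens Y)
  intro b hb
  exact Nat.eq_of_beq_eq_true (List.all_eq_true.mp h b hb)

end Cfsg.Agent.Lib.H17.Fi23Syl
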