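import Cfsg.Agent.Lib.H17.Fi23Syl.Gens

set_option autoImplicit false
set_option maxRecDepth 100000

/-! # A Sylow 2-subgroup of Fi23: the upper generators normalise the elementary abelian subgroup (generated) -/

namespace Cfsg.Agent.Lib.H17.Fi23Syl

open Cfsg.Spor Cfsg.Agent.Lib.H17.CosetCert Cfsg.Agent.Lib.H17.CoxGlue Cfsg.Agent.Lib.H17.Fi23Glue
  Cfsg.Agent.Lib.H17.Fi23Fi22 Cfsg.Agent.Lib.H17.Sgs Cfsg.Agent.Lib.H17.Sift
  Cfsg.Agent.Lib.H17.PermActs Cfsg.Agent.Lib.H17.Pc2 Cfsg.Agent.Lib.H17.LocalActs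
  Cfsg.Agent.Lib.H17.Fi23Out

attribute [local instance] finite_G

/-- exponents of the conjugates -/
def nEL : List (List ℕ) := [[882, 2, 128, 4, 459, 512, 8, 64, 1446, 32, 1265], [8, 748, 64, 1, 1690, 1024, 4, 1607, 256, 512, 32], [8, 2, 882, 1607, 256, 1024, 1833, 1, 1690, 1265, 32], [1607, 2, 917, 2047, 16, 512, 256, 1446, 64, 32, 1265], [459, 2, 64, 1446, 16, 1024, 4, 2047, 917, 1265, 32], [1372, 2, 917, 1446, 882, 32, 256, 2047, 64, 512, 1024], [1607, 2, 64, 128, 1690, 32, 4, 8, 917, 512, 1024]]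

/-- exponent of the conjugate of the generator `j` of the subgroup by the upper generator `i` -/
def nEf (i j : ℕ) : ℕ := (nEL.getD i []).getD j 0

theorem relB_chk : allLt (fun i => allLt (fun j =>
    chkRel (wl1.getD i [] ++ wl2.getD j []) (catBits wl2 (nEf i j) ++ wl1.getD i [])) 11) 7 = true := by
  decide +kernel

theorem relB : ∀ s ∈ gl1, ∀ t ∈ gl2, s * t * s⁻¹ ∈ Subgroup.closure {x | x ∈ gl2} := by
  intro s hs t ht
  obtain ⟨i, hi, rfl⟩ := mem_map_eW hs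
  obtain ⟨j, hj, rfl⟩ := mem_map_eW ht
  have h := allLt_sound _ _ (allLt_sound _ _ relB_chk i hi) j hj
  have := eW_eq_of_chk _ _ h
  rw [eW_append, eW_append, ← nf2_map_eW] at this
  rw [this, mul_inv_cancel_right]
  exact nf2_mem _ _

end Cfsg.Agent.Lib.H17.Fi23Syl
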