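import Cfsg.Agent.Lib.H17.Fi23Syl.Small

set_option autoImplicit false
set_option maxRecDepth 100000

/-! # A Sylow 2-subgroup of Fi23: elements outside every normal elementary abelian subgroup, part 0 (generated) -/

namespace Cfsg.Agent.Lib.H17.Fi23Syl

open Cfsg.Spor Cfsg.Agent.Lib.H17.CosetCert Cfsg.Agent.Lib.H17.CoxGlue Cfsg.Agent.Lib.H17.Fi23Glue
  Cfsg.Agent.Lib.H17.Fi23Fi22 Cfsg.Agent.Lib.H17.Sgs Cfsg.Agent.Lib.H17.Sift
  Cfsg.Agent.Lib.H17.PermActs Cfsg.Agent.Lib.H17.Pc2 Cfsg.Agent.Lib.H17.LocalActs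
  Cfsg.Agent.Lib.H17.Fi23Out

attribute [local instance] finite_G

theorem sw1 : allLt (fun u => chkEl (N := 535) As AIs [463] [] (1 + 128 * u)) 2048 = true := by
  decide +kernel

theorem sw2 : allLt (fun u => chkEl (N := 535) As AIs [525] [(1, 134)] (2 + 128 * u)) 2048 = true := by
  decide +kernel

theorem sw3 : allLt (fun u => chkEl (N := 535) As AIs [255] [] (3 + 128 * u)) 2048 = true := by
  decide +kernel

theorem sw4 : allLt (fun u => chkEl (N := 535) As AIs [94] [] (4 + 128 * u)) 2048 = true := by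
  decide +kernel

theorem sw5 : allLt (fun u => chkEl (N := 535) As AIs [92] [] (5 + 128 * u)) 2048 = true := by
  decide +kernel

theorem sw6 : allLt (fun u => chkEl (N := 535) As AIs [324] [(1, 118)] (6 + 128 * u)) 2048 = true := by
  decide +kernel

theorem sw7 : allLt (fun u => chkEl (N := 535) As AIs [399] [] (7 + 128 * u)) 2048 = true := by
  decide +kernel

theorem sw8 : allLt (fun u => chkEl (N := 535) As AIs [144] [(17, 232)] (8 + 128 * u)) 2048 = true := by
  decide +kernel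

theorem sw9 : allLt (fun u => chkEl (N := 535) As AIs [98] [(2, 41)] (9 + 128 * u)) 2048 = true := by
  decide +kernel

theorem sw10 : allLt (fun u => chkEl (N := 535) As AIs [78] [] (10 + 128 * u)) 2048 = true := by
  decide +kernel

theorem sw11 : allLt (fun u => chkEl (N := 535) As AIs [506] [] (11 + 128 * u)) 2048 = true := by
  decide +kernel

theorem sw12 : allLt (fun u => chkEl (N := 535) As AIs [365] [] (12 + 128 * u)) 2048 = true := by
  decide +kernel

theorem sw13 : allLt (fun u => chkEl (N := 535) As AIs [88] [] (13 + 128 * u)) 2048 = true := by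
  decide +kernel

theorem sw14 : allLt (fun u => chkEl (N := 535) As AIs [311] [] (14 + 128 * u)) 2048 = true := by
  decide +kernel

theorem sw15 : allLt (fun u => chkEl (N := 535) As AIs [226] [] (15 + 128 * u)) 2048 = true := by
  decide +kernel

theorem sw16 : allLt (fun u => chkEl (N := 535) As AIs [370, 490] [(17, 84)] (16 + 128 * u)) 2048 = true := by
  decide +kernel

theorem sw17 : allLt (fun u => chkEl (N := 535) As AIs [469] [] (17 + 128 * u)) 2048 = true := by
  decide +kernel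

theorem sw18 : allLt (fun u => chkEl (N := 535) As AIs [74] [(1, 201)] (18 + 128 * u)) 2048 = true := by
  decide +kernel

theorem sw19 : allLt (fun u => chkEl (N := 535) As AIs [162] [] (19 + 128 * u)) 2048 = true := by
  decide +kernel

theorem sw20 : allLt (fun u => chkEl (N := 535) As AIs [443] [(2, 406)] (20 + 128 * u)) 2048 = true := by
  decide +kernel

theorem sw21 : allLt (fun u => chkEl (N := 535) As AIs [275] [] (21 + 128 * u)) 2048 = true := by
  decide +kernel

theorem sw22 : allLt (fun u => chkEl (N := 535) As AIs [61] [] (22 + 128 * u)) 2048 = true := by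
  decide +kernel

theorem sw23 : allLt (fun u => chkEl (N := 535) As AIs [243] [] (23 + 128 * u)) 2048 = true := by
  decide +kernel

theorem sw24 : allLt (fun u => chkEl (N := 535) As AIs [302] [(17, 501)] (24 + 128 * u)) 2048 = true := by
  decide +kernel

theorem sw25 : allLt (fun u => chkEl (N := 535) As AIs [41] [] (25 + 128 * u)) 2048 = true := by
  decide +kernel

theorem sw26 : allLt (fun u => chkEl (N := 535) As AIs [240] [] (26 + 128 * u)) 2048 = true := by
  decide +kernel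

theorem sw27 : allLt (fun u => chkEl (N := 535) As AIs [307] [] (27 + 128 * u)) 2048 = true := by
  decide +kernel

theorem sw28 : allLt (fun u => chkEl (N := 535) As AIs [233] [] (28 + 128 * u)) 2048 = true := by
  decide +kernel

theorem sw29 : allLt (fun u => chkEl (N := 535) As AIs [462] [(2, 142)] (29 + 128 * u)) 2048 = true := by
  decide +kernel

theorem sw30 : allLt (fun u => chkEl (N := 535) As AIs [82] [] (30 + 128 * u)) 2048 = true := by
  decide +kernel

theorem sw31 : allLt (fun u => chkEl (N := 535) As AIs [367] [] (31 + 128 * u)) 2048 = true := by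
  decide +kernel

theorem sweep0 (e1 : ℕ) (h1 : 0 ≤ e1) (h2 : e1 < 32) (h0 : e1 ≠ 0) (h64 : e1 ≠ 64) (u : ℕ) (hu : u < 2048) :
    ∃ sq cj, chkEl (N := 535) As AIs sq cj (e1 + 128 * u) = true := by
  interval_cases e1
  · omega
  · exact ⟨_, _, allLt_sound _ _ sw1 u hu⟩
  · exact ⟨_, _, allLt_sound _ _ sw2 u hu⟩
  · exact ⟨_, _, allLt_sound _ _ sw3 u hu⟩
  · exact ⟨_, _, allLt_sound _ _ sw4 u hu⟩
  · exact ⟨_, _, allLt_sound _ _ sw5 u hu⟩
  · exact ⟨_, _, allLt_sound _ _ sw6 u hu⟩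
  · exact ⟨_, _, allLt_sound _ _ sw7 u hu⟩
  · exact ⟨_, _, allLt_sound _ _ sw8 u hu⟩
  · exact ⟨_, _, allLt_sound _ _ sw9 u hu⟩
  · exact ⟨_, _, allLt_sound _ _ sw10 u hu⟩
  · exact ⟨_, _, allLt_sound _ _ sw11 u hu⟩
  · exact ⟨_, _, allLt_sound _ _ sw12 u hu⟩
  · exact ⟨_, _, allLt_sound _ _ sw13 u hu⟩
  · exact ⟨_, _, allLt_sound _ _ sw14 u hu⟩
  · exact ⟨_, _, allLt_sound _ _ sw15 u hu⟩
  · exact ⟨_, _, allLt_sound _ _ sw16 u hu⟩
  · exact ⟨_, _, allLt_sound _ _ sw17 u hu⟩
  · exact ⟨_, _, allLt_sound _ _ sw18 u hu⟩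
  · exact ⟨_, _, allLt_sound _ _ sw19 u hu⟩
  · exact ⟨_, _, allLt_sound _ _ sw20 u hu⟩
  · exact ⟨_, _, allLt_sound _ _ sw21 u hu⟩
  · exact ⟨_, _, allLt_sound _ _ sw22 u hu⟩
  · exact ⟨_, _, allLt_sound _ _ sw23 u hu⟩
  · exact ⟨_, _, allLt_sound _ _ sw24 u hu⟩
  · exact ⟨_, _, allLt_sound _ _ sw25 u hu⟩
  · exact ⟨_, _, allLt_sound _ _ sw26 u hu⟩
  · exact ⟨_, _, allLt_sound _ _ sw27 u hu⟩
  · exact ⟨_, _, allLt_sound _ _ sw28 u hu⟩
  · exact ⟨_, _, allLt_sound _ _ sw29 u hu⟩
  · exact ⟨_, _, allLt_sound _ _ sw30 u hu⟩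
  · exact ⟨_, _, allLt_sound _ _ sw31 u hu⟩

end Cfsg.Agent.Lib.H17.Fi23Syl
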