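import Cfsg.Agent.Lib.H17.Fi23Syl.Small

set_option autoImplicit false
set_option maxRecDepth 100000

/-! # A Sylow 2-subgroup of Fi23: elements outside every normal elementary abelian subgroup, part 1 (generated) -/

namespace Cfsg.Agent.Lib.H17.Fi23Syl

open Cfsg.Spor Cfsg.Agent.Lib.H17.CosetCert Cfsg.Agent.Lib.H17.CoxGlue Cfsg.Agent.Lib.H17.Fi23Glue
  Cfsg.Agent.Lib.H17.Fi23Fi22 Cfsg.Agent.Lib.H17.Sgs Cfsg.Agent.Lib.H17.Sift
  Cfsg.Agent.Lib.H17.PermActs Cfsg.Agent.Lib.H17.Pc2 Cfsg.Agent.Lib.H17.LocalActs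
  Cfsg.Agent.Lib.H17.Fi23Out

attribute [local instance] finite_G

theorem sw32 : allLt (fun u => chkEl (N := 535) As AIs [216] [(2, 151)] (32 + 128 * u)) 2048 = true := by
  decide +kernel

theorem sw33 : allLt (fun u => chkEl (N := 535) As AIs [191] [] (33 + 128 * u)) 2048 = true := by
  decide +kernel

theorem sw34 : allLt (fun u => chkEl (N := 535) As AIs [120] [] (34 + 128 * u)) 2048 = true := by
  decide +kernel

theorem sw35 : allLt (fun u => chkEl (N := 535) As AIs [149] [] (35 + 128 * u)) 2048 = true := by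
  decide +kernel

theorem sw36 : allLt (fun u => chkEl (N := 535) As AIs [421] [] (36 + 128 * u)) 2048 = true := by
  decide +kernel

theorem sw37 : allLt (fun u => chkEl (N := 535) As AIs [530] [] (37 + 128 * u)) 2048 = true := by
  decide +kernel

theorem sw38 : allLt (fun u => chkEl (N := 535) As AIs [423] [] (38 + 128 * u)) 2048 = true := by
  decide +kernel

theorem sw39 : allLt (fun u => chkEl (N := 535) As AIs [512] [] (39 + 128 * u)) 2048 = true := by
  decide +kernel

theorem sw40 : allLt (fun u => chkEl (N := 535) As AIs [308] [(2, 22)] (40 + 128 * u)) 2048 = true := by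
  decide +kernel

theorem sw41 : allLt (fun u => chkEl (N := 535) As AIs [493] [(2, 190)] (41 + 128 * u)) 2048 = true := by
  decide +kernel

theorem sw42 : allLt (fun u => chkEl (N := 535) As AIs [268] [] (42 + 128 * u)) 2048 = true := by
  decide +kernel

theorem sw43 : allLt (fun u => chkEl (N := 535) As AIs [62] [] (43 + 128 * u)) 2048 = true := by
  decide +kernel

theorem sw44 : allLt (fun u => chkEl (N := 535) As AIs [32] [] (44 + 128 * u)) 2048 = true := by
  decide +kernel

theorem sw45 : allLt (fun u => chkEl (N := 535) As AIs [266] [] (45 + 128 * u)) 2048 = true := by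
  decide +kernel

theorem sw46 : allLt (fun u => chkEl (N := 535) As AIs [33] [] (46 + 128 * u)) 2048 = true := by
  decide +kernel

theorem sw47 : allLt (fun u => chkEl (N := 535) As AIs [94] [] (47 + 128 * u)) 2048 = true := by
  decide +kernel

theorem sw48 : allLt (fun u => chkEl (N := 535) As AIs [42, 275] [(2, 120)] (48 + 128 * u)) 2048 = true := by
  decide +kernel

theorem sw49 : allLt (fun u => chkEl (N := 535) As AIs [323] [] (49 + 128 * u)) 2048 = true := by
  decide +kernel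

theorem sw50 : allLt (fun u => chkEl (N := 535) As AIs [241] [] (50 + 128 * u)) 2048 = true := by
  decide +kernel

theorem sw51 : allLt (fun u => chkEl (N := 535) As AIs [412] [] (51 + 128 * u)) 2048 = true := by
  decide +kernel

theorem sw52 : allLt (fun u => chkEl (N := 535) As AIs [311] [(4, 262)] (52 + 128 * u)) 2048 = true := by
  decide +kernel

theorem sw53 : allLt (fun u => chkEl (N := 535) As AIs [383] [] (53 + 128 * u)) 2048 = true := by
  decide +kernel

theorem sw54 : allLt (fun u => chkEl (N := 535) As AIs [221] [(1, 15)] (54 + 128 * u)) 2048 = true := by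
  decide +kernel

theorem sw55 : allLt (fun u => chkEl (N := 535) As AIs [92] [] (55 + 128 * u)) 2048 = true := by
  decide +kernel

theorem sw56 : allLt (fun u => chkEl (N := 535) As AIs [192] [(2, 122)] (56 + 128 * u)) 2048 = true := by
  decide +kernel

theorem sw57 : allLt (fun u => chkEl (N := 535) As AIs [68] [] (57 + 128 * u)) 2048 = true := by
  decide +kernel

theorem sw58 : allLt (fun u => chkEl (N := 535) As AIs [9] [] (58 + 128 * u)) 2048 = true := by
  decide +kernel

theorem sw59 : allLt (fun u => chkEl (N := 535) As AIs [398] [] (59 + 128 * u)) 2048 = true := by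
  decide +kernel

theorem sw60 : allLt (fun u => chkEl (N := 535) As AIs [187] [] (60 + 128 * u)) 2048 = true := by
  decide +kernel

theorem sw61 : allLt (fun u => chkEl (N := 535) As AIs [451] [(2, 393)] (61 + 128 * u)) 2048 = true := by
  decide +kernel

theorem sw62 : allLt (fun u => chkEl (N := 535) As AIs [61] [] (62 + 128 * u)) 2048 = true := by
  decide +kernel

theorem sw63 : allLt (fun u => chkEl (N := 535) As AIs [531] [] (63 + 128 * u)) 2048 = true := by
  decide +kernel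

theorem sweep1 (e1 : ℕ) (h1 : 32 ≤ e1) (h2 : e1 < 64) (h0 : e1 ≠ 0) (h64 : e1 ≠ 64) (u : ℕ) (hu : u < 2048) :
    ∃ sq cj, chkEl (N := 535) As AIs sq cj (e1 + 128 * u) = true := by
  interval_cases e1
  · exact ⟨_, _, allLt_sound _ _ sw32 u hu⟩
  · exact ⟨_, _, allLt_sound _ _ sw33 u hu⟩
  · exact ⟨_, _, allLt_sound _ _ sw34 u hu⟩
  · exact ⟨_, _, allLt_sound _ _ sw35 u hu⟩
  · exact ⟨_, _, allLt_sound _ _ sw36 u hu⟩
  · exact ⟨_, _, allLt_sound _ _ sw37 u hu⟩
  · exact ⟨_, _, allLt_sound _ _ sw38 u hu⟩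
  · exact ⟨_, _, allLt_sound _ _ sw39 u hu⟩
  · exact ⟨_, _, allLt_sound _ _ sw40 u hu⟩
  · exact ⟨_, _, allLt_sound _ _ sw41 u hu⟩
  · exact ⟨_, _, allLt_sound _ _ sw42 u hu⟩
  · exact ⟨_, _, allLt_sound _ _ sw43 u hu⟩
  · exact ⟨_, _, allLt_sound _ _ sw44 u hu⟩
  · exact ⟨_, _, allLt_sound _ _ sw45 u hu⟩
  · exact ⟨_, _, allLt_sound _ _ sw46 u hu⟩
  · exact ⟨_, _, allLt_sound _ _ sw47 u hu⟩
  · exact ⟨_, _, allLt_sound _ _ sw48 u hu⟩
  · exact ⟨_, _, allLt_sound _ _ sw49 u hu⟩
  · exact ⟨_, _, allLt_sound _ _ sw50 u hu⟩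
  · exact ⟨_, _, allLt_sound _ _ sw51 u hu⟩
  · exact ⟨_, _, allLt_sound _ _ sw52 u hu⟩
  · exact ⟨_, _, allLt_sound _ _ sw53 u hu⟩
  · exact ⟨_, _, allLt_sound _ _ sw54 u hu⟩
  · exact ⟨_, _, allLt_sound _ _ sw55 u hu⟩
  · exact ⟨_, _, allLt_sound _ _ sw56 u hu⟩
  · exact ⟨_, _, allLt_sound _ _ sw57 u hu⟩
  · exact ⟨_, _, allLt_sound _ _ sw58 u hu⟩
  · exact ⟨_, _, allLt_sound _ _ sw59 u hu⟩
  · exact ⟨_, _, allLt_sound _ _ sw60 u hu⟩
  · exact ⟨_, _, allLt_sound _ _ sw61 u hu⟩
  · exact ⟨_, _, allLt_sound _ _ sw62 u hu⟩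
  · exact ⟨_, _, allLt_sound _ _ sw63 u hu⟩

end Cfsg.Agent.Lib.H17.Fi23Syl
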