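import Cfsg.Agent.Lib.H17.Fi23Syl.Small

set_option autoImplicit false
set_option maxRecDepth 100000

/-! # A Sylow 2-subgroup of Fi23: elements outside every normal elementary abelian subgroup, part 2 (generated) -/

namespace Cfsg.Agent.Lib.H17.Fi23Syl

open Cfsg.Spor Cfsg.Agent.Lib.H17.CosetCert Cfsg.Agent.Lib.H17.CoxGlue Cfsg.Agent.Lib.H17.Fi23Glue
  Cfsg.Agent.Lib.H17.Fi23Fi22 Cfsg.Agent.Lib.H17.Sgs Cfsg.Agent.Lib.H17.Sift
  Cfsg.Agent.Lib.H17.PermActs Cfsg.Agent.Lib.H17.Pc2 Cfsg.Agent.Lib.H17.LocalActs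
  Cfsg.Agent.Lib.H17.Fi23Out

attribute [local instance] finite_G

theorem sw65 : allLt (fun u => chkEl (N := 535) As AIs [214] [] (65 + 128 * u)) 2048 = true := by
  decide +kernel

theorem sw66 : allLt (fun u => chkEl (N := 535) As AIs [464] [(1, 473)] (66 + 128 * u)) 2048 = true := by
  decide +kernel

theorem sw67 : allLt (fun u => chkEl (N := 535) As AIs [148] [] (67 + 128 * u)) 2048 = true := by
  decide +kernel

theorem sw68 : allLt (fun u => chkEl (N := 535) As AIs [91] [] (68 + 128 * u)) 2048 = true := by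
  decide +kernel

theorem sw69 : allLt (fun u => chkEl (N := 535) As AIs [314] [] (69 + 128 * u)) 2048 = true := by
  decide +kernel

theorem sw70 : allLt (fun u => chkEl (N := 535) As AIs [472] [(1, 393)] (70 + 128 * u)) 2048 = true := by
  decide +kernel

theorem sw71 : allLt (fun u => chkEl (N := 535) As AIs [231] [] (71 + 128 * u)) 2048 = true := by
  decide +kernel

theorem sw72 : allLt (fun u => chkEl (N := 535) As AIs [73] [(4, 46)] (72 + 128 * u)) 2048 = true := by
  decide +kernel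

theorem sw73 : allLt (fun u => chkEl (N := 535) As AIs [223] [(2, 405)] (73 + 128 * u)) 2048 = true := by
  decide +kernel

theorem sw74 : allLt (fun u => chkEl (N := 535) As AIs [207] [] (74 + 128 * u)) 2048 = true := by
  decide +kernel

theorem sw75 : allLt (fun u => chkEl (N := 535) As AIs [145] [] (75 + 128 * u)) 2048 = true := by
  decide +kernel

theorem sw76 : allLt (fun u => chkEl (N := 535) As AIs [534] [] (76 + 128 * u)) 2048 = true := by
  decide +kernel

theorem sw77 : allLt (fun u => chkEl (N := 535) As AIs [148] [] (77 + 128 * u)) 2048 = true := by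
  decide +kernel

theorem sw78 : allLt (fun u => chkEl (N := 535) As AIs [157] [] (78 + 128 * u)) 2048 = true := by
  decide +kernel

theorem sw79 : allLt (fun u => chkEl (N := 535) As AIs [230] [] (79 + 128 * u)) 2048 = true := by
  decide +kernel

theorem sw80 : allLt (fun u => chkEl (N := 535) As AIs [213, 174] [(5, 477)] (80 + 128 * u)) 2048 = true := by
  decide +kernel

theorem sw81 : allLt (fun u => chkEl (N := 535) As AIs [245] [] (81 + 128 * u)) 2048 = true := by
  decide +kernel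

theorem sw82 : allLt (fun u => chkEl (N := 535) As AIs [112] [(1, 70)] (82 + 128 * u)) 2048 = true := by
  decide +kernel

theorem sw83 : allLt (fun u => chkEl (N := 535) As AIs [46] [] (83 + 128 * u)) 2048 = true := by
  decide +kernel

theorem sw84 : allLt (fun u => chkEl (N := 535) As AIs [518] [(2, 262)] (84 + 128 * u)) 2048 = true := by
  decide +kernel

theorem sw85 : allLt (fun u => chkEl (N := 535) As AIs [200] [] (85 + 128 * u)) 2048 = true := by
  decide +kernel

theorem sw86 : allLt (fun u => chkEl (N := 535) As AIs [7] [] (86 + 128 * u)) 2048 = true := by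
  decide +kernel

theorem sw87 : allLt (fun u => chkEl (N := 535) As AIs [163] [] (87 + 128 * u)) 2048 = true := by
  decide +kernel

theorem sw88 : allLt (fun u => chkEl (N := 535) As AIs [478] [(4, 523)] (88 + 128 * u)) 2048 = true := by
  decide +kernel

theorem sw89 : allLt (fun u => chkEl (N := 535) As AIs [187] [] (89 + 128 * u)) 2048 = true := by
  decide +kernel

theorem sw90 : allLt (fun u => chkEl (N := 535) As AIs [421] [] (90 + 128 * u)) 2048 = true := by
  decide +kernel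

theorem sw91 : allLt (fun u => chkEl (N := 535) As AIs [494] [] (91 + 128 * u)) 2048 = true := by
  decide +kernel

theorem sw92 : allLt (fun u => chkEl (N := 535) As AIs [97] [] (92 + 128 * u)) 2048 = true := by
  decide +kernel

theorem sw93 : allLt (fun u => chkEl (N := 535) As AIs [490] [(2, 260)] (93 + 128 * u)) 2048 = true := by
  decide +kernel

theorem sw94 : allLt (fun u => chkEl (N := 535) As AIs [237] [] (94 + 128 * u)) 2048 = true := by
  decide +kernel

theorem sw95 : allLt (fun u => chkEl (N := 535) As AIs [181] [] (95 + 128 * u)) 2048 = true := by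
  decide +kernel

theorem sweep2 (e1 : ℕ) (h1 : 64 ≤ e1) (h2 : e1 < 96) (h0 : e1 ≠ 0) (h64 : e1 ≠ 64) (u : ℕ) (hu : u < 2048) :
    ∃ sq cj, chkEl (N := 535) As AIs sq cj (e1 + 128 * u) = true := by
  interval_cases e1
  · omega
  · exact ⟨_, _, allLt_sound _ _ sw65 u hu⟩
  · exact ⟨_, _, allLt_sound _ _ sw66 u hu⟩
  · exact ⟨_, _, allLt_sound _ _ sw67 u hu⟩
  · exact ⟨_, _, allLt_sound _ _ sw68 u hu⟩
  · exact ⟨_, _, allLt_sound _ _ sw69 u hu⟩
  · exact ⟨_, _, allLt_sound _ _ sw70 u hu⟩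
  · exact ⟨_, _, allLt_sound _ _ sw71 u hu⟩
  · exact ⟨_, _, allLt_sound _ _ sw72 u hu⟩
  · exact ⟨_, _, allLt_sound _ _ sw73 u hu⟩
  · exact ⟨_, _, allLt_sound _ _ sw74 u hu⟩
  · exact ⟨_, _, allLt_sound _ _ sw75 u hu⟩
  · exact ⟨_, _, allLt_sound _ _ sw76 u hu⟩
  · exact ⟨_, _, allLt_sound _ _ sw77 u hu⟩
  · exact ⟨_, _, allLt_sound _ _ sw78 u hu⟩
  · exact ⟨_, _, allLt_sound _ _ sw79 u hu⟩
  · exact ⟨_, _, allLt_sound _ _ sw80 u hu⟩
  · exact ⟨_, _, allLt_sound _ _ sw81 u hu⟩
  · exact ⟨_, _, allLt_sound _ _ sw82 u hu⟩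
  · exact ⟨_, _, allLt_sound _ _ sw83 u hu⟩
  · exact ⟨_, _, allLt_sound _ _ sw84 u hu⟩
  · exact ⟨_, _, allLt_sound _ _ sw85 u hu⟩
  · exact ⟨_, _, allLt_sound _ _ sw86 u hu⟩
  · exact ⟨_, _, allLt_sound _ _ sw87 u hu⟩
  · exact ⟨_, _, allLt_sound _ _ sw88 u hu⟩
  · exact ⟨_, _, allLt_sound _ _ sw89 u hu⟩
  · exact ⟨_, _, allLt_sound _ _ sw90 u hu⟩
  · exact ⟨_, _, allLt_sound _ _ sw91 u hu⟩
  · exact ⟨_, _, allLt_sound _ _ sw92 u hu⟩
  · exact ⟨_, _, allLt_sound _ _ sw93 u hu⟩
  · exact ⟨_, _, allLt_sound _ _ sw94 u hu⟩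
  · exact ⟨_, _, allLt_sound _ _ sw95 u hu⟩

end Cfsg.Agent.Lib.H17.Fi23Syl
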