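import Cfsg.Agent.Lib.H17.Fi23Syl.Small

set_option autoImplicit false
set_option maxRecDepth 100000

/-! # A Sylow 2-subgroup of Fi23: elements outside every normal elementary abelian subgroup, part 3 (generated) -/

namespace Cfsg.Agent.Lib.H17.Fi23Syl

open Cfsg.Spor Cfsg.Agent.Lib.H17.CosetCert Cfsg.Agent.Lib.H17.CoxGlue Cfsg.Agent.Lib.H17.Fi23Glue
  Cfsg.Agent.Lib.H17.Fi23Fi22 Cfsg.Agent.Lib.H17.Sgs Cfsg.Agent.Lib.H17.Sift
  Cfsg.Agent.Lib.H17.PermActs Cfsg.Agent.Lib.H17.Pc2 Cfsg.Agent.Lib.H17.LocalActs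
  Cfsg.Agent.Lib.H17.Fi23Out

attribute [local instance] finite_G

theorem sw96 : allLt (fun u => chkEl (N := 535) As AIs [312] [(2, 93)] (96 + 128 * u)) 2048 = true := by
  decide +kernel

theorem sw97 : allLt (fun u => chkEl (N := 535) As AIs [461] [] (97 + 128 * u)) 2048 = true := by
  decide +kernel

theorem sw98 : allLt (fun u => chkEl (N := 535) As AIs [136] [] (98 + 128 * u)) 2048 = true := by
  decide +kernel

theorem sw99 : allLt (fun u => chkEl (N := 535) As AIs [413] [] (99 + 128 * u)) 2048 = true := by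
  decide +kernel

theorem sw100 : allLt (fun u => chkEl (N := 535) As AIs [261] [] (100 + 128 * u)) 2048 = true := by
  decide +kernel

theorem sw101 : allLt (fun u => chkEl (N := 535) As AIs [330] [] (101 + 128 * u)) 2048 = true := by
  decide +kernel

theorem sw102 : allLt (fun u => chkEl (N := 535) As AIs [285] [] (102 + 128 * u)) 2048 = true := by
  decide +kernel

theorem sw103 : allLt (fun u => chkEl (N := 535) As AIs [150] [] (103 + 128 * u)) 2048 = true := by
  decide +kernel

theorem sw104 : allLt (fun u => chkEl (N := 535) As AIs [223] [(2, 211)] (104 + 128 * u)) 2048 = true := by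
  decide +kernel

theorem sw105 : allLt (fun u => chkEl (N := 535) As AIs [63] [(2, 398)] (105 + 128 * u)) 2048 = true := by
  decide +kernel

theorem sw106 : allLt (fun u => chkEl (N := 535) As AIs [169] [] (106 + 128 * u)) 2048 = true := by
  decide +kernel

theorem sw107 : allLt (fun u => chkEl (N := 535) As AIs [403] [] (107 + 128 * u)) 2048 = true := by
  decide +kernel

theorem sw108 : allLt (fun u => chkEl (N := 535) As AIs [438] [] (108 + 128 * u)) 2048 = true := by
  decide +kernel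

theorem sw109 : allLt (fun u => chkEl (N := 535) As AIs [479] [] (109 + 128 * u)) 2048 = true := by
  decide +kernel

theorem sw110 : allLt (fun u => chkEl (N := 535) As AIs [391] [] (110 + 128 * u)) 2048 = true := by
  decide +kernel

theorem sw111 : allLt (fun u => chkEl (N := 535) As AIs [246] [] (111 + 128 * u)) 2048 = true := by
  decide +kernel

theorem sw112 : allLt (fun u => chkEl (N := 535) As AIs [358, 123] [(2, 72)] (112 + 128 * u)) 2048 = true := by
  decide +kernel

theorem sw113 : allLt (fun u => chkEl (N := 535) As AIs [126] [] (113 + 128 * u)) 2048 = true := by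
  decide +kernel

theorem sw114 : allLt (fun u => chkEl (N := 535) As AIs [433] [] (114 + 128 * u)) 2048 = true := by
  decide +kernel

theorem sw115 : allLt (fun u => chkEl (N := 535) As AIs [170] [] (115 + 128 * u)) 2048 = true := by
  decide +kernel

theorem sw116 : allLt (fun u => chkEl (N := 535) As AIs [513] [(4, 282)] (116 + 128 * u)) 2048 = true := by
  decide +kernel

theorem sw117 : allLt (fun u => chkEl (N := 535) As AIs [404] [] (117 + 128 * u)) 2048 = true := by
  decide +kernel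

theorem sw118 : allLt (fun u => chkEl (N := 535) As AIs [376] [(1, 91)] (118 + 128 * u)) 2048 = true := by
  decide +kernel

theorem sw119 : allLt (fun u => chkEl (N := 535) As AIs [39] [] (119 + 128 * u)) 2048 = true := by
  decide +kernel

theorem sw120 : allLt (fun u => chkEl (N := 535) As AIs [109] [(2, 274)] (120 + 128 * u)) 2048 = true := by
  decide +kernel

theorem sw121 : allLt (fun u => chkEl (N := 535) As AIs [25] [] (121 + 128 * u)) 2048 = true := by
  decide +kernel

theorem sw122 : allLt (fun u => chkEl (N := 535) As AIs [180] [] (122 + 128 * u)) 2048 = true := by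
  decide +kernel

theorem sw123 : allLt (fun u => chkEl (N := 535) As AIs [165] [] (123 + 128 * u)) 2048 = true := by
  decide +kernel

theorem sw124 : allLt (fun u => chkEl (N := 535) As AIs [433] [] (124 + 128 * u)) 2048 = true := by
  decide +kernel

theorem sw125 : allLt (fun u => chkEl (N := 535) As AIs [164] [(2, 316)] (125 + 128 * u)) 2048 = true := by
  decide +kernel

theorem sw126 : allLt (fun u => chkEl (N := 535) As AIs [521] [] (126 + 128 * u)) 2048 = true := by
  decide +kernel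

theorem sw127 : allLt (fun u => chkEl (N := 535) As AIs [243] [] (127 + 128 * u)) 2048 = true := by
  decide +kernel

theorem sweep3 (e1 : ℕ) (h1 : 96 ≤ e1) (h2 : e1 < 128) (h0 : e1 ≠ 0) (h64 : e1 ≠ 64) (u : ℕ) (hu : u < 2048) :
    ∃ sq cj, chkEl (N := 535) As AIs sq cj (e1 + 128 * u) = true := by
  interval_cases e1
  · exact ⟨_, _, allLt_sound _ _ sw96 u hu⟩
  · exact ⟨_, _, allLt_sound _ _ sw97 u hu⟩
  · exact ⟨_, _, allLt_sound _ _ sw98 u hu⟩
  · exact ⟨_, _, allLt_sound _ _ sw99 u hu⟩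
  · exact ⟨_, _, allLt_sound _ _ sw100 u hu⟩
  · exact ⟨_, _, allLt_sound _ _ sw101 u hu⟩
  · exact ⟨_, _, allLt_sound _ _ sw102 u hu⟩
  · exact ⟨_, _, allLt_sound _ _ sw103 u hu⟩
  · exact ⟨_, _, allLt_sound _ _ sw104 u hu⟩
  · exact ⟨_, _, allLt_sound _ _ sw105 u hu⟩
  · exact ⟨_, _, allLt_sound _ _ sw106 u hu⟩
  · exact ⟨_, _, allLt_sound _ _ sw107 u hu⟩
  · exact ⟨_, _, allLt_sound _ _ sw108 u hu⟩
  · exact ⟨_, _, allLt_sound _ _ sw109 u hu⟩
  · exact ⟨_, _, allLt_sound _ _ sw110 u hu⟩
  · exact ⟨_, _, allLt_sound _ _ sw111 u hu⟩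
  · exact ⟨_, _, allLt_sound _ _ sw112 u hu⟩
  · exact ⟨_, _, allLt_sound _ _ sw113 u hu⟩
  · exact ⟨_, _, allLt_sound _ _ sw114 u hu⟩
  · exact ⟨_, _, allLt_sound _ _ sw115 u hu⟩
  · exact ⟨_, _, allLt_sound _ _ sw116 u hu⟩
  · exact ⟨_, _, allLt_sound _ _ sw117 u hu⟩
  · exact ⟨_, _, allLt_sound _ _ sw118 u hu⟩
  · exact ⟨_, _, allLt_sound _ _ sw119 u hu⟩
  · exact ⟨_, _, allLt_sound _ _ sw120 u hu⟩
  · exact ⟨_, _, allLt_sound _ _ sw121 u hu⟩
  · exact ⟨_, _, allLt_sound _ _ sw122 u hu⟩
  · exact ⟨_, _, allLt_sound _ _ sw123 u hu⟩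
  · exact ⟨_, _, allLt_sound _ _ sw124 u hu⟩
  · exact ⟨_, _, allLt_sound _ _ sw125 u hu⟩
  · exact ⟨_, _, allLt_sound _ _ sw126 u hu⟩
  · exact ⟨_, _, allLt_sound _ _ sw127 u hu⟩

end Cfsg.Agent.Lib.H17.Fi23Syl
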