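import Cfsg.Agent.Lib.H17.Fi23Syl.RelA
import Cfsg.Agent.Lib.H17.Fi23Syl.RelB
import Cfsg.Agent.Lib.H17.Fi23Syl.RelC
import Cfsg.Agent.Lib.H17.Fi23Syl.Sweep0
import Cfsg.Agent.Lib.H17.Fi23Syl.Sweep1
import Cfsg.Agent.Lib.H17.Fi23Syl.Sweep2
import Cfsg.Agent.Lib.H17.Fi23Syl.Sweep3
import Cfsg.Agent.Lib.H17.Fi23Syl.Cent
import Cfsg.Agent.Lib.H17.SylTransport

set_option autoImplicit false
set_option maxRecDepth 100000

/-! # A Sylow 2-subgroup of Fi23: its normal elementary abelian subgroups -/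

namespace Cfsg.Agent.Lib.H17.Fi23Syl

open Cfsg.Spor Cfsg.Agent.Lib.H17.CosetCert Cfsg.Agent.Lib.H17.CoxGlue Cfsg.Agent.Lib.H17.Fi23Glue
  Cfsg.Agent.Lib.H17.Fi23Fi22 Cfsg.Agent.Lib.H17.Sgs Cfsg.Agent.Lib.H17.Sift
  Cfsg.Agent.Lib.H17.PermActs Cfsg.Agent.Lib.H17.Pc2 Cfsg.Agent.Lib.H17.LocalActs
  Cfsg.Agent.Lib.H17.Fi23Out

attribute [local instance] finite_G

theorem pcOK : PcOK2 (gl1 ++ gl2) :=
  Cfsg.Agent.Lib.H17.SylEA.pcOK2_of_parts gl1 gl2 relA sqA relB sqC commC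

theorem applyBits_split (e1 u k : ℕ) (h1 : e1 < 128) :
    applyBits As (e1 + 128 * u) k = applyBits As1 e1 (applyBits As2 u k) := by
  rw [As_eq]
  have hl : As1.length = 7 := rfl
  have h128 : (2 : ℕ) ^ 7 = 128 := by norm_num
  have := applyBits_append As1 As2 e1 u k (by rw [hl, h128]; exact h1)
  rw [hl, h128] at this
  exact this

theorem sig_fix (u k : ℕ) (hk : k = 0 ∨ k = 5 ∨ k = 6) : applyBits As2 u k = k := by
  apply applyBits_fix
  intro a ha
  have := List.all_eq_true.mp fixE_chk a ha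
  simp only [Bool.and_eq_true] at this
  rcases hk with rfl | rfl | rfl
  · exact Nat.eq_of_beq_eq_true this.1.1
  · exact Nat.eq_of_beq_eq_true this.1.2
  · exact Nat.eq_of_beq_eq_true this.2

theorem nf2_split (e1 u : ℕ) (h1 : e1 < 128) :
    nf2 (gl1 ++ gl2) (e1 + 128 * u) = nf2 gl1 e1 * nf2 gl2 u := by
  have h128 : (2 : ℕ) ^ 7 = 128 := by norm_num
  have := nf2_append gl1 gl2 e1 u (by rw [gl1_length, h128]; exact h1)
  rw [gl1_length, h128] at this
  exact this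

theorem beq_self (x : ℕ) : Nat.beq x x = true := by simp

theorem beq_ne {x y : ℕ} (h : x ≠ y) : Nat.beq x y = false := by
  cases hc : Nat.beq x y
  · rfl
  · exact absurd (Nat.eq_of_beq_eq_true hc) h

theorem lower_inj : ∀ u < 2 ^ gl2.length, ∀ v < 2 ^ gl2.length, nf2 gl2 u = nf2 gl2 v → u = v := by
  apply nf2_inj_of_ne_one gl2 sqC commC
  intro w hw hw0
  rw [gl2_length] at hw
  have hx := lacts_nf2 hP gl2 As2 hL2 w
  have h := allLt_sound _ _ mv_chk w (by simpa using hw)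
  rw [beq_ne hw0, cond_false] at h
  intro hone
  rw [hone] at hx
  have h1 : ∀ k < 535, applyBits As2 w k = k := LActs.unique hPinj hx LActs.one
  rw [h1 1 (by norm_num), h1 16 (by norm_num), h1 2 (by norm_num), beq_self, beq_self, beq_self] at h
  exact absurd h (by simp)

theorem nf_inj : ∀ e < 2 ^ (gl1 ++ gl2).length, ∀ e' < 2 ^ (gl1 ++ gl2).length,
    nf2 (gl1 ++ gl2) e = nf2 (gl1 ++ gl2) e' → e = e' := by
  have hlen : (gl1 ++ gl2).length = 18 := rfl
  rw [hlen]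
  intro e he e' he' heq
  obtain ⟨e1, u, h1, h2, rfl⟩ : ∃ e1 u, e1 < 128 ∧ u < 2048 ∧ e = e1 + 128 * u :=
    ⟨e % 128, e / 128, by omega, by omega, by omega⟩
  obtain ⟨e1', u', h1', h2', rfl⟩ : ∃ e1 u, e1 < 128 ∧ u < 2048 ∧ e' = e1 + 128 * u :=
    ⟨e' % 128, e' / 128, by omega, by omega, by omega⟩
  have hx := lacts_nf2 hP _ As hL (e1 + 128 * u)
  have hy := lacts_nf2 hP _ As hL (e1' + 128 * u')
  rw [heq] at hx
  have huniq := LActs.unique hPinj hx hy
  have hk : ∀ k, (k = 0 ∨ k = 5 ∨ k = 6) → applyBits As1 e1 k = applyBits As1 e1' k := by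
    intro k hk
    have := huniq k (by rcases hk with rfl | rfl | rfl <;> norm_num)
    rw [applyBits_split _ _ _ h1, applyBits_split _ _ _ h1', sig_fix _ _ hk, sig_fix _ _ hk] at this
    exact this
  have he1 : e1 = e1' := by
    by_contra hne
    have h := allLt_sound _ _ (allLt_sound _ _ sig_chk e1 h1) e1' h1'
    rw [beq_ne hne, cond_false, hk 0 (Or.inl rfl), hk 5 (Or.inr (Or.inl rfl)),
      hk 6 (Or.inr (Or.inr rfl)), beq_self, beq_self, beq_self] at h
    exact absurd h (by simp)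
  subst he1
  rw [nf2_split _ _ h1, nf2_split _ _ h1] at heq
  have := lower_inj u (by rw [gl2_length]; simpa using h2) u' (by rw [gl2_length]; simpa using h2')
    (mul_left_cancel heq)
  rw [this]

theorem excl (A : Subgroup G) (_hAT : A ≤ Subgroup.closure {x | x ∈ gl1 ++ gl2})
    (hn : ∀ t ∈ Subgroup.closure {x | x ∈ gl1 ++ gl2}, ∀ x ∈ A, t * x * t⁻¹ ∈ A)
    (hc : ∀ x ∈ A, ∀ y ∈ A, x * y = y * x) (hs : ∀ x ∈ A, x ^ 2 = 1)
    (e1 : ℕ) (h1 : e1 < 2 ^ gl1.length) (h0 : e1 ≠ 0) (h64 : e1 ≠ 64) (u : ℕ)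
    (hu : u < 2 ^ gl2.length) :
    nf2 (gl1 ++ gl2) (e1 + 2 ^ gl1.length * u) ∉ A := by
  have h128 : (2 : ℕ) ^ 7 = 128 := by norm_num
  have h2048 : (2 : ℕ) ^ 11 = 2048 := by norm_num
  rw [gl1_length, h128] at h1 ⊢
  rw [gl2_length, h2048] at hu
  obtain ⟨sq, cj, h⟩ : ∃ sq cj, chkEl (N := 535) As AIs sq cj (e1 + 128 * u) = true := by
    rcases lt_or_ge e1 32 with h | h
    · exact sweep0 e1 (by omega) h h0 h64 u hu
    rcases lt_or_ge e1 64 with h' | h'
    · exact sweep1 e1 h h' h0 h64 u hu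
    rcases lt_or_ge e1 96 with h'' | h''
    · exact sweep2 e1 h' h'' h0 h64 u hu
    · exact sweep3 e1 h'' h1 h0 h64 u hu
  exact not_mem_of_chkEl hP hPinj (gl1 ++ gl2) As AIs hL hLI A _ (fun f => nf2_mem _ f) hn hc hs
    sq cj _ h

theorem fact2 : (4089470473293004800 : ℕ).factorization 2 = 18 := by
  have h : (4089470473293004800 : ℕ) = 2 ^ 18 * 15600091832325 := by norm_num
  have h2 : (15600091832325 : ℕ).factorization 2 = 0 :=
    Nat.factorization_eq_zero_of_not_dvd (by norm_num)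
  rw [h, Nat.factorization_mul (by norm_num) (by norm_num), Finsupp.add_apply,
    Nat.Prime.factorization_pow Nat.prime_two, h2]
  simp

/-- every normal elementary abelian subgroup of a Sylow 2-subgroup of Fi23 has order at most
`2 ^ 11`, and exactly one has this order -/
theorem syl_result (T : Sylow 2 G) :
    (∀ A : Subgroup G, A ≤ T → (A.subgroupOf T).Normal → Cfsg.IsElementaryAbelian 2 A →
        Nat.card A ≤ 2 ^ 11) ∧
    ∃! A : Subgroup G, A ≤ T ∧ (A.subgroupOf T).Normal ∧ Cfsg.IsElementaryAbelian 2 A ∧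
        Nat.card A = 2 ^ 11 := by
  obtain ⟨hT, hE, hle, hn, hc, hs, hA⟩ := Cfsg.Agent.Lib.H17.SylEA.main gl1 gl2 64 128 pcOK sqC commC
    relB nf_inj excl fixB fix_count (by rw [gl2_length]; norm_num) cent
  refine Cfsg.Agent.Lib.H17.SylTransport.transport (Subgroup.closure {x | x ∈ gl1 ++ gl2})
    (Subgroup.closure {x | x ∈ gl2}) 11 ?_ hle hn hc hs (by rw [hE, gl2_length]) ?_ T
  · rw [hT, card_G, gl1_length, gl2_length, fact2]
  · intro A h1 h2 h3 h4
    have := hA A h1 h2 h3 h4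
    rwa [gl2_length] at this

end Cfsg.Agent.Lib.H17.Fi23Syl
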