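import Cfsg.Agent.Lib.H17.Fi23Syl.Gens

set_option autoImplicit false
set_option maxRecDepth 100000

/-! # A Sylow 2-subgroup of Fi23: relations of the upper generators (generated) -/

namespace Cfsg.Agent.Lib.H17.Fi23Syl

open Cfsg.Spor Cfsg.Agent.Lib.H17.CosetCert Cfsg.Agent.Lib.H17.CoxGlue Cfsg.Agent.Lib.H17.Fi23Glue
  Cfsg.Agent.Lib.H17.Fi23Fi22 Cfsg.Agent.Lib.H17.Sgs Cfsg.Agent.Lib.H17.Sift
  Cfsg.Agent.Lib.H17.PermActs Cfsg.Agent.Lib.H17.Pc2 Cfsg.Agent.Lib.H17.LocalActs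
  Cfsg.Agent.Lib.H17.Fi23Out

attribute [local instance] finite_G

/-- exponents of the commutation relations -/
def relEL : List (List ℕ) := [[0, 108675, 84514, 40548, 39480, 67536, 47904], [0, 0, 27345, 59302, 33764, 64184, 35984], [0, 0, 0, 30165, 29850, 29732, 1976], [0, 0, 0, 0, 11009, 4354, 1932], [0, 0, 0, 0, 0, 7877, 4498], [0, 0, 0, 0, 0, 0, 1], [0, 0, 0, 0, 0, 0, 0]]

/-- exponents of the squares -/
def sqEL : List ℕ := [9568, 2176, 12584, 1928, 272, 0, 0]

/-- exponent of the relation of the generators `i < j` -/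
def relEf (i j : ℕ) : ℕ := (relEL.getD i []).getD j 0

theorem relA_chk : allLt (fun i => allLt (fun j => cond (Nat.blt i j)
    (chkRel (wl1.getD i [] ++ wl1.getD j [])
      (catBits (wl1.drop (i + 1) ++ wl2) (relEf i j) ++ wl1.getD i [])) true) 7) 7 = true := by
  decide +kernel

theorem sqA_chk : allLt (fun i => chkRel (wl1.getD i [] ++ wl1.getD i [])
    (catBits (wl1.drop (i + 1) ++ wl2) (sqEL.getD i 0))) 7 = true := by
  decide +kernel

theorem drop_eq (i : ℕ) : gl1.drop (i + 1) ++ gl2 = (wl1.drop (i + 1) ++ wl2).map (eW gens) := by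
  unfold gl1 gl2
  rw [List.map_append, List.map_drop]

theorem relA (i j : ℕ) (hij : i < j) (hj : j < gl1.length) :
    ∃ e, gl1.getD i 1 * gl1.getD j 1 = nf2 (gl1.drop (i + 1) ++ gl2) e * gl1.getD i 1 := by
  rw [gl1_length] at hj
  refine ⟨relEf i j, ?_⟩
  have h := allLt_sound _ _ (allLt_sound _ _ relA_chk i (by omega)) j hj
  have hb : Nat.blt i j = true := by simpa [Nat.blt_eq] using hij
  rw [hb, cond_true] at h
  have := eW_eq_of_chk _ _ h
  rw [eW_append, eW_append, ← nf2_map_eW] at this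
  rw [drop_eq]
  unfold gl1
  rw [getD_map_eW, getD_map_eW]
  exact this

theorem sqA (i : ℕ) (hi : i < gl1.length) :
    ∃ e, gl1.getD i 1 ^ 2 = nf2 (gl1.drop (i + 1) ++ gl2) e := by
  rw [gl1_length] at hi
  refine ⟨sqEL.getD i 0, ?_⟩
  have h := allLt_sound _ _ sqA_chk i hi
  have := eW_eq_of_chk _ _ h
  rw [eW_append, ← nf2_map_eW] at this
  rw [drop_eq, pow_two]
  unfold gl1
  rw [getD_map_eW]
  exact this

end Cfsg.Agent.Lib.H17.Fi23Syl
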